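import Groth.Agent.S1604
import Groth.Agent.VBLib.Sub
import Groth.Agent.VBLib.CurveDual
import Groth.Agent.CurveLib.TensorExact
import Groth.Agent.H1ZeroLib.Coh
import Groth.Prelude.Def_ParBun2

/-!
# The fibre of a bundle on an effective divisor of a curve
-/

set_option autoImplicit false
set_option backward.isDefEq.respectTransparency false
set_option linter.style.haveILetI false
set_option linter.unusedSectionVars false
set_option maxHeartbeats 1600000

universe u

open CategoryTheory CategoryTheory.Limits AlgebraicGeometry TopologicalSpace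
open Groth.Agent.PullbackMod Groth.Agent.DCohLib
open scoped TensorProduct

noncomputable section

namespace Groth.Agent.GPLib

variable (k : Type u) [Field k] {X : Scheme.{u}} [X.Over (Spec (CommRingCat.of k))]

/-- `f ⊗ 1` on the divisor. -/
abbrev res (I : X.IdealSheafData) {M N : X.Modules} (f : M ⟶ N) : ParSh.resD I M ⟶ ParSh.resD I N :=
  (CurveLib.tensR (ClSub.quotMod I)).map f

theorem resDMap_eq (I : X.IdealSheafData) {M N : X.Modules} (f : M ⟶ N) : ParSh.resDMap I f = res I f :=
  (KoszTw.tensorBi_map_app f _).symm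

theorem fibDMap_eq (I : X.IdealSheafData) {M N : X.Modules} (f : M ⟶ N) :
    ParSh.fibDMap k X I f = CurveLib.hMap (k := k) (res I f) 0 := by
  show Canon.HHlin k (ParSh.resDMap I f) 0 = _
  rw [resDMap_eq]
  exact LinearMap.ext fun z => rfl

theorem fibDMap_comp (I : X.IdealSheafData) {A B C : X.Modules} (f : A ⟶ B) (g : B ⟶ C) (z : ParSh.fibD X I A) :
    ParSh.fibDMap k X I (f ≫ g) z = ParSh.fibDMap k X I g (ParSh.fibDMap k X I f z) := by
  simp only [fibDMap_eq, res, Functor.map_comp]
  exact VBLib.Dual.hMap_comp k _ _ 0 z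

theorem fibDMap_id (I : X.IdealSheafData) (A : X.Modules) (z : ParSh.fibD X I A) :
    ParSh.fibDMap k X I (𝟙 A) z = z := by
  simp only [fibDMap_eq, res, CategoryTheory.Functor.map_id]
  exact VBLib.Dual.hMap_id k _ 0 z

theorem fibDMap_add (I : X.IdealSheafData) {A B : X.Modules} (f g : A ⟶ B) (z : ParSh.fibD X I A) :
    ParSh.fibDMap k X I (f + g) z = ParSh.fibDMap k X I f z + ParSh.fibDMap k X I g z := by
  simp only [fibDMap_eq, res, Functor.map_add]
  exact VBLib.Dual.hMap_add k _ _ 0 z

theorem fibDMap_cst (I : X.IdealSheafData) (A : X.Modules) (c : k) (z : ParSh.fibD X I A) :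
    ParSh.fibDMap k X I (VBLib.cst k A c : A ⟶ A) z = c • z := by
  simp only [fibDMap_eq, res, VBLib.Dual.tensR_map_cst]
  exact VBLib.Dual.hMap_cst k _ c 0 z

variable [IsProper (X ↘ Spec (CommRingCat.of k))] {I : X.IdealSheafData}

theorem support_resD (I : X.IdealSheafData) (M : X.Modules) :
    CohB1.support (ParSh.resD I M) ⊆ (I.support : Set X) := fun x hx => by
  by_contra hxI
  have h : Subsingleton ((ClSub.quotMod I).presheaf.stalk x) :=
    not_not.1 fun hh => hxI (IntLib.support_quotMod_subset I hh)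
  have h' : Subsingleton (M.presheaf.stalk x ⊗[X.presheaf.stalk x] (ClSub.quotMod I).presheaf.stalk x) :=
    subsingleton_of_forall_eq 0 fun z => by
      induction z using TensorProduct.induction_on with
      | zero => rfl
      | tmul a b => rw [Subsingleton.elim b 0, TensorProduct.tmul_zero]
      | add a b ha hb => rw [ha, hb, add_zero]
  exact hx ((stalkTensor x M (ClSub.quotMod I)).toEquiv.symm.subsingleton)

omit [IsProper (X ↘ Spec (CommRingCat.of k))] in
theorem isCoh_resD [IsLocallyNoetherian X] {M : X.Modules} (hM : Coh.IsCoh M) : Coh.IsCoh (ParSh.resD I M) :=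
  CurveLib.isCoh_tmod (M := M) (N := ClSub.quotMod I) hM (IntLib.isCoh_quotMod I)

theorem support_le_of_mono {A B : X.Modules} (f : A ⟶ B) [Mono f] : CohB1.support A ⊆ CohB1.support B :=
  fun x hx hs => hx (Function.Injective.subsingleton ((mono_iff_stalk f).1 inferInstance x))

theorem support_le_of_epi {A B : X.Modules} (f : A ⟶ B) [Epi f] : CohB1.support B ⊆ CohB1.support A :=
  fun x hx hs => hx (Function.Surjective.subsingleton ((epi_iff_stalk f).1 inferInstance x))

variable (hI : topologicalKrullDim (I.support : Set X) ≤ 0)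

theorem dim_support (hdim : topologicalKrullDim X ≤ 1) (hD : FGA.IsEffCartier I) :
    topologicalKrullDim (I.support : Set X) ≤ 0 :=
  S1604.dim_le_zero_of_specializes hdim I.support.isClosed fun _ hx => S1604.exists_generalization hD hx

include k hI

theorem euler_supp {A : X.Modules} (hA : CohB1.support A ⊆ (I.support : Set X)) :
    Curv2.euler k X A = Module.finrank k (Coh.HH X A 0) :=
  CurveLib.euler_of_dim_le_zero I.support.isClosed hA hI

theorem subsingleton_H1 {A : X.Modules} (hA : CohB1.support A ⊆ (I.support : Set X)) :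
    Subsingleton (Coh.HH X A 1) := by
  haveI := EulerIneqLib.isNoetherian_proper (X := X) k
  exact CurveLib.subsingleton_HH_of_support A I.support.isClosed hA (d := 0) hI zero_lt_one

omit hI in
theorem ker_comp_mono {A C B : X.Modules} (p : A ⟶ C) (j : C ⟶ B) [Mono j] :
    LinearMap.ker (CurveLib.hMap (k := k) (p ≫ j) 0) = LinearMap.ker (CurveLib.hMap (k := k) p 0) := by
  ext z
  rw [LinearMap.mem_ker, LinearMap.mem_ker, VBLib.Dual.hMap_comp]
  exact map_eq_zero_iff (CurveLib.hMap (k := k) (DevLib.cokerSeq j).f 0)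
    (CurveLib.hMap_f_zero_injective (DevLib.cokerSeq_shortExact j))

omit hI in
theorem finrank_ker_g {S : ShortComplex X.Modules} (hS : S.ShortExact) :
    Module.finrank k (LinearMap.ker (CurveLib.hMap (k := k) S.g 0)) = Module.finrank k (Coh.HH X S.X₁ 0) := by
  rw [← CurveLib.range_hMap_f hS 0]
  exact (LinearEquiv.ofInjective _ (CurveLib.hMap_f_zero_injective (k := k) hS)).finrank_eq.symm

omit hI in
theorem finrank_ker_π {K A : X.Modules} (ι : K ⟶ A) [Mono ι] :
    Module.finrank k (LinearMap.ker (CurveLib.hMap (k := k) (cokernel.π ι) 0)) =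
      Module.finrank k (Coh.HH X K 0) :=
  finrank_ker_g k (S := ShortComplex.mk ι (cokernel.π ι) (cokernel.condition ι))
    (DevLib.cokerSeq_shortExact ι)

omit hI in
theorem finrank_iso {A B : X.Modules} (e : A ≅ B) :
    Module.finrank k (Coh.HH X A 0) = Module.finrank k (Coh.HH X B 0) :=
  (LinearEquiv.ofLinearMap (CurveLib.hMap (k := k) e.hom 0) (CurveLib.hMap (k := k) e.inv 0)
    (LinearMap.ext fun z => by
      rw [LinearMap.comp_apply, ← VBLib.Dual.hMap_comp, e.inv_hom_id, VBLib.Dual.hMap_id, LinearMap.id_apply])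
    (LinearMap.ext fun z => by
      rw [LinearMap.comp_apply, ← VBLib.Dual.hMap_comp, e.hom_inv_id, VBLib.Dual.hMap_id,
        LinearMap.id_apply])).finrank_eq

/-- Sections of a quotient lift. -/
theorem hMap_surjective {A B : X.Modules} (f : A ⟶ B) [Epi f] (hA : CohB1.support A ⊆ (I.support : Set X)) :
    Function.Surjective (CurveLib.hMap (k := k) f 0) := by
  haveI := subsingleton_H1 k hI ((support_le_of_mono (kernel.ι f)).trans hA)
  exact H1ZeroLib.surjective_H0 f ((epi_iff_stalk f).1 inferInstance)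

/-- Kernel and rank of the map on sections of torsion modules. -/
theorem finrank_ker_eq {A B : X.Modules} (a : A ⟶ B) (hAc : Coh.IsCoh A) (hBc : Coh.IsCoh B)
    (hA : CohB1.support A ⊆ (I.support : Set X)) (hB : CohB1.support B ⊆ (I.support : Set X))
    (he : Curv2.euler k X A = Curv2.euler k X B) :
    Module.finrank k (LinearMap.ker (CurveLib.hMap (k := k) a 0)) =
      Module.finrank k (Coh.HH X (cokernel a) 0) := by
  haveI := EulerIneqLib.isNoetherian_proper (X := X) k
  haveI := EulerIneqLib.finite_HH (k := k) hAc 0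
  haveI := EulerIneqLib.finite_HH (k := k) hBc 0
  obtain ⟨hK, hC⟩ := QCohLib.isCoh_kernel_cokernel a hAc hBc
  have hIm := (QCohLib.isCoh_kernel_cokernel (kernel.ι a) hK hAc).2
  let j : cokernel (kernel.ι a) ⟶ B := Abelian.factorThruCoimage a
  haveI : Mono j := inferInstanceAs (Mono (Abelian.factorThruCoimage a))
  have hS := DevLib.cokerSeq_shortExact (kernel.ι a)
  have hpj : cokernel.π (kernel.ι a) ≫ j = a := Abelian.coimage.fac a
  have h1 : Module.finrank k (LinearMap.ker (CurveLib.hMap (k := k) a 0)) =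
      Module.finrank k (Coh.HH X (kernel a) 0) := by
    conv_lhs => rw [← hpj, ker_comp_mono k]
    exact finrank_ker_π k (kernel.ι a)
  -- the two sequences
  have hx := CurveLib.euler_shortExact (K := k) hS hK hAc hIm
  have e : cokernel j ≅ cokernel a :=
    (cokernelEpiComp (cokernel.π (kernel.ι a)) j).symm ≪≫ cokernelIsoOfEq hpj
  have hy := CurveLib.euler_shortExact (K := k) (DevLib.cokerSeq_shortExact j) hIm hBc
    (QCohLib.isCoh_kernel_cokernel j hIm hBc).2
  change Curv2.euler k X A = Curv2.euler k X (kernel a) + Curv2.euler k X (cokernel (kernel.ι a)) at hx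
  change Curv2.euler k X B = Curv2.euler k X (cokernel (kernel.ι a)) + Curv2.euler k X (cokernel j) at hy
  rw [CurveLib.euler_iso (K := k) e] at hy
  have h2 := euler_supp k hI ((support_le_of_mono (kernel.ι a)).trans hA)
  have h3 := euler_supp k hI ((support_le_of_epi (cokernel.π a)).trans hB)
  omega

/-- The kernel on sections of a cokernel projection. -/
theorem ker_hMap_cokernelπ {A B : X.Modules} (a : A ⟶ B) (hA : CohB1.support A ⊆ (I.support : Set X)) :
    LinearMap.ker (CurveLib.hMap (k := k) (cokernel.π a) 0) ≤ LinearMap.range (CurveLib.hMap (k := k) a 0) := by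
  haveI := EulerIneqLib.isNoetherian_proper (X := X) k
  have hS := Abelian.image.ι a
  let im := Abelian.factorThruImage a
  haveI : Epi im := inferInstanceAs (Epi (Abelian.factorThruImage a))
  have hS : (ShortComplex.mk (Abelian.image.ι a) (cokernel.π a) (kernel.condition _)).ShortExact :=
    ShortComplex.ShortExact.mk' (ShortComplex.exact_of_f_is_kernel _ (kernelIsKernel (cokernel.π a)))
      (inferInstanceAs (Mono (kernel.ι (cokernel.π a)))) inferInstance
  intro z hz
  obtain ⟨w, rfl⟩ := (CurveLib.range_hMap_f hS 0).ge hz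
  obtain ⟨v, rfl⟩ := hMap_surjective k hI im hA w
  refine ⟨v, ?_⟩
  conv_lhs => rw [← Abelian.image.fac a]
  exact VBLib.Dual.hMap_comp k _ _ 0 v

/-- `χ(E ⊗ O_D) = n · h⁰(O_D)`. -/
theorem euler_resD [IsIntegral X] {n : ℕ} {E : X.Modules} (hE : FlatMod.IsFinLocFreeOfRank n E) :
    Curv2.euler k X (ParSh.resD I E) = n * Curv2.euler k X (ClSub.quotMod I) := by
  haveI := EulerIneqLib.isNoetherian_proper (X := X) k
  have hQ : Coh.IsCoh (ClSub.quotMod I) := IntLib.isCoh_quotMod I
  refine (CurveLib.euler_iso (K := k) (CurveLib.tmodComm E (ClSub.quotMod I))).trans ?_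
  refine CurveLib.euler_eq_mul (k := k) hQ (CurveLib.isCoh_tmod hQ (VBLib.isCoh_of_rank hE))
    I.support.isClosed (IntLib.support_quotMod_subset I) hI n fun x => ?_
  obtain ⟨e⟩ := CurveLib.freeAt_of_isFinLocFreeOfRank hE x
  exact ⟨(stalkTensor x (ClSub.quotMod I) E).symm ≪≫ₗ LinearEquiv.lTensor _ e ≪≫ₗ
    TensorProduct.piScalarRight (X.presheaf.stalk x) (X.presheaf.stalk x) _ (Fin n)⟩

omit hI in
theorem finite_fibD [IsIntegral X] {n : ℕ} {E : X.Modules} (hE : FlatMod.IsFinLocFreeOfRank n E) :
    Module.Finite k (ParSh.fibD X I E) := by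
  haveI := EulerIneqLib.isNoetherian_proper (X := X) k
  exact EulerIneqLib.finite_HH (k := k) (isCoh_resD (VBLib.isCoh_of_rank hE)) 0

/-- `T ⊗ O_D` is a quotient of `T`. -/
theorem finrank_fibD_le [IsIntegral X] (hdim : topologicalKrullDim X ≤ 1) {T : X.Modules} (hT : Coh.IsCoh T)
    (h : VBLib.grk T = 0) : (Module.finrank k (ParSh.fibD X I T) : ℤ) ≤ VBLib.dg k T := by
  haveI := EulerIneqLib.isNoetherian_proper (X := X) k
  haveI : Epi (ClSub.toSubscheme I) := HilbObsLib.epi_toSubscheme _
  let q : T ⟶ ParSh.resD I T :=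
    (CurveLib.tmodUnit T).inv ≫ (CurveLib.tensR T).map (ClSub.toSubscheme I) ≫ (CurveLib.tmodComm _ _).hom
  haveI : Epi q := inferInstanceAs (Epi ((CurveLib.tmodUnit T).inv ≫ _ ≫ _))
  obtain ⟨he, hd⟩ := VBLib.dg_eq_finrank k hdim hT h
  have hRc : Coh.IsCoh (ParSh.resD I T) := isCoh_resD hT
  have hK := (QCohLib.isCoh_kernel_cokernel q hT hRc).1
  have hS : (ShortComplex.mk (kernel.ι q) q (kernel.condition q)).ShortExact :=
    ShortComplex.ShortExact.mk' (ShortComplex.exact_of_f_is_kernel _ (kernelIsKernel q)) inferInstance inferInstance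
  have hx := CurveLib.euler_shortExact (K := k) hS hK hT hRc
  change Curv2.euler k X T = Curv2.euler k X (kernel q) + Curv2.euler k X (ParSh.resD I T) at hx
  have hC := DevLib.isClosed_support hT
  have h1 := CurveLib.euler_of_dim_le_zero (k := k) hC subset_rfl hd
  have h2 := CurveLib.euler_of_dim_le_zero (k := k) hC (support_le_of_mono (kernel.ι q)) hd
  have h3 := euler_supp k hI (support_resD I T)
  rw [he]
  show (Module.finrank k (Coh.HH X (ParSh.resD I T) 0) : ℤ) ≤ _
  omega

/-- The kernel of the map induced by a full rank inclusion. -/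
theorem finrank_ker_fibDMap_le [IsIntegral X] [IsNoetherian X] (hdim : topologicalKrullDim X ≤ 1)
    {n : ℕ} {A B : X.Modules} (hA : FlatMod.IsFinLocFreeOfRank n A) (hB : FlatMod.IsFinLocFreeOfRank n B)
    (f : A ⟶ B) [Mono f] :
    (Module.finrank k (LinearMap.ker (ParSh.fibDMap k X I f)) : ℤ) ≤
      Curv2.deg k X B n - Curv2.deg k X A n := by
  have hAc := VBLib.isCoh_of_rank hA
  have hBc := VBLib.isCoh_of_rank hB
  obtain ⟨hT, h1, h2⟩ := VBLib.coker_add k f hAc hBc
  rw [VBLib.grk_of_rank hA, VBLib.grk_of_rank hB] at h1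
  rw [VBLib.dg_eq k hA, VBLib.dg_eq k hB] at h2
  rw [fibDMap_eq, finrank_ker_eq k hI (res I f) (isCoh_resD hAc) (isCoh_resD hBc) (support_resD I A)
    (support_resD I B) (by rw [euler_resD k hI hA, euler_resD k hI hB])]
  have h3 := finrank_fibD_le k hI hdim hT (by omega)
  have e : Module.finrank k (Coh.HH X (cokernel (res I f)) 0) =
      Module.finrank k (ParSh.fibD X I (cokernel f)) :=
    finrank_iso k (PreservesCokernel.iso (CurveLib.tensR (ClSub.quotMod I)) f).symm
  rw [e]
  omega

/-- Exactness on the fibres, at the middle term. -/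
theorem ker_fibDMap_cokernelπ {A B : X.Modules} (f : A ⟶ B) :
    LinearMap.ker (ParSh.fibDMap k X I (cokernel.π f)) ≤ LinearMap.range (ParSh.fibDMap k X I f) := by
  intro z hz
  rw [LinearMap.mem_ker, fibDMap_eq] at hz
  rw [fibDMap_eq]
  refine ker_hMap_cokernelπ k hI (res I f) (support_resD I A) (LinearMap.mem_ker.2 ?_)
  have h : cokernel.π (res I f) = (CurveLib.tensR (ClSub.quotMod I)).map (cokernel.π f) ≫
      (PreservesCokernel.iso (CurveLib.tensR (ClSub.quotMod I)) f).hom := by
    exact (PreservesCokernel.π_iso_hom (CurveLib.tensR (ClSub.quotMod I)) f).symm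
  rw [h, VBLib.Dual.hMap_comp]
  exact (congrArg _ hz).trans (map_zero _)

end Groth.Agent.GPLib
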