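import Groth.Agent.GPLib.Fib
import Groth.Agent.VBLib.Scalar

/-!
# Generalised parabolic bundles: maps, slopes and simplicity
-/

set_option autoImplicit false
set_option backward.isDefEq.respectTransparency false
set_option linter.style.haveILetI false
set_option linter.unusedSectionVars false
set_option maxHeartbeats 1600000

universe u

open CategoryTheory CategoryTheory.Limits AlgebraicGeometry TopologicalSpace
open Groth.Agent.VBLib

noncomputable section

namespace Groth.Agent.GPLib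

theorem rank_congr {X : Scheme.{u}} {n : ℕ} {M N : X.Modules} (e : M ≅ N)
    (hM : FlatMod.IsFinLocFreeOfRank n M) : FlatMod.IsFinLocFreeOfRank n N := fun x => by
  obtain ⟨U, hx, ⟨e'⟩⟩ := hM x
  exact ⟨U, hx, ⟨(Scheme.Modules.restrictFunctor U.ι).mapIso e.symm ≪≫ e'⟩⟩

variable (k : Type u) [Field k] {X : Scheme.{u}} [X.Over (Spec (CommRingCat.of k))]
  [IsProper (X ↘ Spec (CommRingCat.of k))] [IsIntegral X] [IsNoetherian X] [IsRegCurve X]
  {I : X.IdealSheafData} (hdim : topologicalKrullDim X ≤ 1) (hI : topologicalKrullDim (I.support : Set X) ≤ 0)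

theorem map_induced_le {A B : X.Modules} (f : A ⟶ B) (F₁ : Submodule k (ParSh.fibD X I B)) :
    (ParSh.gpInduced k X I f F₁).map (ParSh.fibDMap k X I f) ≤ F₁ := Submodule.map_comap_le _ _

theorem finrank_le_map_add {V W : Type u} [AddCommGroup V] [Module k V] [AddCommGroup W] [Module k W]
    [Module.Finite k V] [Module.Finite k W] (φ : V →ₗ[k] W) (P : Submodule k V) :
    Module.finrank k P ≤ Module.finrank k (P.map φ) + Module.finrank k ↥(P ⊓ LinearMap.ker φ) := by
  have h := LinearMap.finrank_range_add_finrank_ker (φ.domRestrict P)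
  rw [LinearMap.range_domRestrict] at h
  have e : Module.finrank k (LinearMap.ker (φ.domRestrict P)) ≤ Module.finrank k ↥(P ⊓ LinearMap.ker φ) :=
    LinearMap.finrank_le_finrank_of_injective
      (f := LinearMap.codRestrict (P ⊓ LinearMap.ker φ) (P.subtype.comp (LinearMap.ker (φ.domRestrict P)).subtype)
        fun v => ⟨v.1.2, v.2⟩)
      (fun a b h => Subtype.ext (Subtype.ext (congrArg Subtype.val h :)))
  omega

include hdim hI in
/-- The weight of a structure is bounded along a full rank inclusion. -/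
theorem wt_le_mono {n : ℕ} {A B : X.Modules} (hA : FlatMod.IsFinLocFreeOfRank n A)
    (hB : FlatMod.IsFinLocFreeOfRank n B) (F₁ : Submodule k (ParSh.fibD X I A))
    (F₁' : Submodule k (ParSh.fibD X I B)) (f : A ⟶ B) [Mono f] (hf : ParSh.IsGPHom k X I F₁ F₁' f) :
    (Module.finrank k F₁ : ℤ) ≤ Module.finrank k F₁' + (Curv2.deg k X B n - Curv2.deg k X A n) := by
  haveI := finite_fibD k (I := I) hA
  haveI := finite_fibD k (I := I) hB
  have h1 := finrank_le_map_add k (ParSh.fibDMap k X I f) F₁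
  have h2 := Submodule.finrank_mono hf
  have h3 : Module.finrank k ↥(F₁ ⊓ LinearMap.ker (ParSh.fibDMap k X I f)) ≤
      Module.finrank k (LinearMap.ker (ParSh.fibDMap k X I f)) := Submodule.finrank_mono inf_le_right
  have h4 := finrank_ker_fibDMap_le k hI hdim hA hB f
  omega

include hdim in
theorem deg_le_mono {n : ℕ} {A B : X.Modules} (hA : FlatMod.IsFinLocFreeOfRank n A)
    (hB : FlatMod.IsFinLocFreeOfRank n B) (f : A ⟶ B) [Mono f] :
    Curv2.deg k X A n ≤ Curv2.deg k X B n ∧ (Curv2.deg k X B n ≤ Curv2.deg k X A n → IsIso f) := by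
  have h := dg_le_of_mono k hdim f (isCoh_of_rank hA) (isCoh_of_rank hB) (by rw [grk_of_rank hA, grk_of_rank hB])
  rwa [dg_eq k hA, dg_eq k hB] at h

include hdim hI in
/-- A full rank parabolic inclusion does not lower the parabolic degree. -/
theorem gpDeg_le_mono {n : ℕ} {A B : X.Modules} (hA : FlatMod.IsFinLocFreeOfRank n A)
    (hB : FlatMod.IsFinLocFreeOfRank n B) (F₁ : Submodule k (ParSh.fibD X I A))
    (F₁' : Submodule k (ParSh.fibD X I B)) (f : A ⟶ B) [Mono f] (hf : ParSh.IsGPHom k X I F₁ F₁' f)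
    {α : ℝ} (h0 : 0 ≤ α) (h1 : α ≤ 1) :
    ParSh.gpDeg k X α A F₁ n ≤ ParSh.gpDeg k X α B F₁' n ∧
      (α < 1 → ParSh.gpDeg k X α B F₁' n ≤ ParSh.gpDeg k X α A F₁ n →
        IsIso f ∧ (0 < α → F₁.map (ParSh.fibDMap k X I f) = F₁')) := by
  have hw : (Module.finrank k F₁ : ℝ) ≤
      (Module.finrank k F₁' : ℝ) + ((Curv2.deg k X B n : ℝ) - (Curv2.deg k X A n : ℝ)) := by
    exact_mod_cast wt_le_mono k hdim hI hA hB F₁ F₁' f hf
  obtain ⟨hd, hiso⟩ := deg_le_mono k hdim hA hB f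
  have hd' : (Curv2.deg k X A n : ℝ) ≤ (Curv2.deg k X B n : ℝ) := by exact_mod_cast hd
  have hm := mul_le_mul_of_nonneg_left hw h0
  have hm' := mul_le_mul_of_nonneg_right h1 (sub_nonneg.2 hd')
  simp only [ParSh.gpDeg, ParSh.gpWt]
  refine ⟨by nlinarith, fun hα hle => ?_⟩
  have hδ : (1 - α) * ((Curv2.deg k X B n : ℝ) - (Curv2.deg k X A n : ℝ)) ≤ 0 := by nlinarith
  have hδ' : (Curv2.deg k X B n : ℝ) ≤ (Curv2.deg k X A n : ℝ) := by
    by_contra hc
    exact absurd hδ (not_le.2 (mul_pos (sub_pos.2 hα) (sub_pos.2 (not_le.1 hc))))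
  haveI := hiso (by exact_mod_cast hδ')
  refine ⟨inferInstance, fun hpos => ?_⟩
  haveI := finite_fibD k (I := I) hB
  have hinj : Function.Injective (ParSh.fibDMap k X I f) := fun a b h => by
    have := congrArg (ParSh.fibDMap k X I (inv f)) h
    rwa [← fibDMap_comp, ← fibDMap_comp, IsIso.hom_inv_id, fibDMap_id, fibDMap_id] at this
  refine Submodule.eq_of_le_of_finrank_le hf ?_
  rw [← ((Submodule.equivMapOfInjective _ hinj F₁).finrank_eq)]
  have h5 : α * (Module.finrank k F₁' : ℝ) ≤ α * (Module.finrank k F₁ : ℝ) := by linarith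
  exact_mod_cast le_of_mul_le_mul_left h5 hpos

include hI in
theorem gpDeg_rank_zero {A : X.Modules} (hA : FlatMod.IsFinLocFreeOfRank 0 A)
    (P : Submodule k (ParSh.fibD X I A)) (α : ℝ) : ParSh.gpDeg k X α A P 0 = 0 := by
  haveI := finite_fibD k (I := I) hA
  have hA' := isCoh_of_rank hA
  have hz : IsZero A := isZero_of_mono (𝟙 A) hA' hA (grk_of_rank hA)
  have hd : Curv2.deg k X A 0 = 0 := by rw [← dg_eq k hA]; exact (dg_isZero k hz).2
  have h : Module.finrank k (ParSh.fibD X I A) = 0 := by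
    have h1 := euler_resD k hI hA
    rw [euler_supp k hI (support_resD I A)] at h1
    push_cast at h1
    rw [zero_mul] at h1
    exact_mod_cast h1
  have h' : Module.finrank k P = 0 := Nat.eq_zero_of_le_zero ((Submodule.finrank_le P).trans h.le)
  simp [ParSh.gpDeg, ParSh.gpWt, hd, h']

include hI in
theorem ss_le {E : X.Modules} {n : ℕ} {α : ℝ} {F₁ : Submodule k (ParSh.fibD X I E)}
    (hss : ParSh.IsGPSemistable k X I α F₁ n) {G : X.Modules} {r : ℕ} (i : G ⟶ E) [hi : Mono i]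
    (hG : FlatMod.IsFinLocFreeOfRank r G) :
    ParSh.gpDeg k X α G (ParSh.gpInduced k X I i F₁) r * (n : ℝ) ≤ ParSh.gpDeg k X α E F₁ n * (r : ℝ) := by
  rcases Nat.eq_zero_or_pos r with rfl | hr
  · rw [gpDeg_rank_zero k hI hG]
    simp
  · exact hss G r i hi hr hG

include hdim hI in
/-- Kernel and image of a parabolic map. -/
theorem exists_image_gp {n m : ℕ} {E F : X.Modules} (hE : FlatMod.IsFinLocFreeOfRank n E)
    (hF : FlatMod.IsFinLocFreeOfRank m F) (F₁ : Submodule k (ParSh.fibD X I E))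
    (F₁' : Submodule k (ParSh.fibD X I F)) (f : E ⟶ F) (hf : ParSh.IsGPHom k X I F₁ F₁' f)
    {α : ℝ} (h0 : 0 ≤ α) :
    ∃ (K J : X.Modules) (ι : K ⟶ E) (p : E ⟶ J) (i : J ⟶ F) (a b : ℕ), Mono ι ∧ Mono i ∧ Epi p ∧ p ≫ i = f ∧
      FlatMod.IsFinLocFreeOfRank a K ∧ FlatMod.IsFinLocFreeOfRank b J ∧ n = a + b ∧ b ≤ m ∧
      (f ≠ 0 → 0 < b) ∧ (a = 0 → Mono f) ∧
      ParSh.gpDeg k X α E F₁ n ≤ ParSh.gpDeg k X α K (ParSh.gpInduced k X I ι F₁) a +
        ParSh.gpDeg k X α J (ParSh.gpInduced k X I i F₁') b := by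
  have hEc := isCoh_of_rank hE
  have hFc := isCoh_of_rank hF
  have hK := (QCohLib.isCoh_kernel_cokernel f hEc hFc).1
  obtain ⟨hJ, h1, h2⟩ := coker_add k (kernel.ι f) hK hEc
  let p : E ⟶ cokernel (kernel.ι f) := cokernel.π (kernel.ι f)
  let i : cokernel (kernel.ι f) ⟶ F := Abelian.factorThruCoimage f
  haveI hi : Mono i := inferInstanceAs (Mono (Abelian.factorThruCoimage f))
  have hpi : p ≫ i = f := Abelian.coimage.fac f
  have hKr := rank_of_mono (kernel.ι f) hK hE
  have hJr := rank_of_mono i hJ hF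
  obtain ⟨-, h3, -⟩ := coker_add k i hJ hFc
  rw [grk_of_rank hE] at h1
  rw [grk_of_rank hF] at h3
  rw [dg_eq k hE, dg_eq k hKr, dg_eq k hJr] at h2
  refine ⟨kernel f, _, kernel.ι f, p, i, _, _, inferInstance, hi, inferInstanceAs (Epi (cokernel.π _)), hpi,
    hKr, hJr, h1, by omega, fun hne => Nat.pos_of_ne_zero fun hb => hne ?_, fun ha =>
    Preadditive.mono_of_isZero_kernel f (isZero_of_mono (kernel.ι f) hK hE ha), ?_⟩
  · rw [← hpi, (isZero_of_mono i hJ hF hb).eq_of_tgt p 0, zero_comp]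
  haveI := finite_fibD k (I := I) hE
  haveI := finite_fibD k (I := I) hJr
  haveI := finite_fibD k (I := I) hKr
  have hmap : F₁.map (ParSh.fibDMap k X I p) ≤ ParSh.gpInduced k X I i F₁' := by
    rintro _ ⟨z, hz, rfl⟩
    show ParSh.fibDMap k X I i (ParSh.fibDMap k X I p z) ∈ F₁'
    rw [← fibDMap_comp, hpi]
    exact hf ⟨z, hz, rfl⟩
  have hker : F₁ ⊓ LinearMap.ker (ParSh.fibDMap k X I p) ≤
      (ParSh.gpInduced k X I (kernel.ι f) F₁).map (ParSh.fibDMap k X I (kernel.ι f)) := by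
    rintro z ⟨hz, hz'⟩
    obtain ⟨v, rfl⟩ := ker_fibDMap_cokernelπ k hI (kernel.ι f) hz'
    exact ⟨v, hz, rfl⟩
  have h4 := finrank_le_map_add k (ParSh.fibDMap k X I p) F₁
  have h5 := Submodule.finrank_mono hmap
  have h6 := (Submodule.finrank_mono hker).trans (Submodule.finrank_map_le _ _)
  have h7 : (Module.finrank k F₁ : ℝ) ≤ (Module.finrank k (ParSh.gpInduced k X I (kernel.ι f) F₁) : ℝ) +
      (Module.finrank k (ParSh.gpInduced k X I i F₁') : ℝ) := by exact_mod_cast (show _ ≤ _ by omega)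
  have h8 : (Curv2.deg k X E n : ℝ) = (Curv2.deg k X (kernel f) (grk (kernel f)) : ℝ) +
      (Curv2.deg k X (cokernel (kernel.ι f)) (grk (cokernel (kernel.ι f))) : ℝ) := by exact_mod_cast h2
  have h9 := mul_le_mul_of_nonneg_left h7 h0
  simp only [ParSh.gpDeg, ParSh.gpWt]
  linarith

end Groth.Agent.GPLib
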