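import Groth.Agent.GPLib.Main

/-!
# Maps of semistable parabolic bundles, and change of weight
-/

set_option autoImplicit false
set_option backward.isDefEq.respectTransparency false
set_option linter.style.haveILetI false
set_option linter.unusedSectionVars false
set_option maxHeartbeats 1600000

universe u

open CategoryTheory CategoryTheory.Limits AlgebraicGeometry TopologicalSpace
open Groth.Agent.VBLib

noncomputable section

namespace Groth.Agent.GPLib

variable (k : Type u) [Field k] {X : Scheme.{u}} [X.Over (Spec (CommRingCat.of k))]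
  [IsProper (X ↘ Spec (CommRingCat.of k))] [IsIntegral X] [IsNoetherian X] [IsRegCurve X]
  {I : X.IdealSheafData} (hdim : topologicalKrullDim X ≤ 1) (hI : topologicalKrullDim (I.support : Set X) ≤ 0)

variable {α : ℝ} {E F : X.Modules} {n m : ℕ} {F₁ : Submodule k (ParSh.fibD X I E)}
  {F₁' : Submodule k (ParSh.fibD X I F)}

include hdim hI in
/-- The cokernel of a map between semistable structures of equal slope is locally free. -/
theorem exists_rank_coker (h0 : 0 ≤ α) (h1 : α < 1) (hn : 0 < n) (hm : 0 < m)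
    (hE : FlatMod.IsFinLocFreeOfRank n E) (hF : FlatMod.IsFinLocFreeOfRank m F)
    (hEss : ParSh.IsGPSemistable k X I α F₁ n) (hFss : ParSh.IsGPSemistable k X I α F₁' m)
    (hμ : ParSh.gpDeg k X α E F₁ n * (m : ℝ) = ParSh.gpDeg k X α F F₁' m * (n : ℝ))
    (f : E ⟶ F) (hf : ParSh.IsGPHom k X I F₁ F₁' f) :
    ∃ r₀ : ℕ, FlatMod.IsFinLocFreeOfRank r₀ (cokernel f) := by
  obtain ⟨K, J, ι, p, i, a, b, hι, hi, hp, hpi, hK, hJ, hab, -, -, -, hle⟩ :=
    exists_image_gp k hdim hI hE hF F₁ F₁' f hf h0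
  haveI := hi
  haveI := hp
  have hJc := isCoh_of_rank hJ
  have hFc := isCoh_of_rank hF
  obtain ⟨hC, hC1, hC2⟩ := coker_add k i hJc hFc
  obtain ⟨C', q, hq, hC'c, hC', hC'r, -⟩ := exists_freeQuot k hdim hC
  haveI := hq
  let π : F ⟶ C' := cokernel.π i ≫ q
  haveI : Epi π := epi_comp _ _
  obtain ⟨hJ'c, hJ'1, hJ'2⟩ := kernel_add k π hFc hC'c
  have hJ' := rank_of_mono (kernel.ι π) hJ'c hF
  have hb : grk (kernel π) = b := by
    rw [grk_of_rank hJ] at hC1
    omega
  rw [hb] at hJ'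
  let j : J ⟶ kernel π := kernel.lift π i (by simp [π])
  have hj : j ≫ kernel.ι π = i := kernel.lift_ι π i _
  haveI : Mono j := mono_of_mono_fac hj
  have hjf : ParSh.IsGPHom k X I (ParSh.gpInduced k X I i F₁') (ParSh.gpInduced k X I (kernel.ι π) F₁') j := by
    rintro _ ⟨z, hz, rfl⟩
    show ParSh.fibDMap k X I (kernel.ι π) (ParSh.fibDMap k X I j z) ∈ F₁'
    rw [← fibDMap_comp, hj]
    exact hz
  obtain ⟨g1, g2⟩ := gpDeg_le_mono k hdim hI hJ hJ' _ _ j hjf h0 h1.le
  have hKss := ss_le k hI hEss ι hK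
  have hJ'ss := ss_le k hI hFss (kernel.ι π) hJ'
  set gE := ParSh.gpDeg k X α E F₁ n
  set gK := ParSh.gpDeg k X α K (ParSh.gpInduced k X I ι F₁) a
  set gJ := ParSh.gpDeg k X α J (ParSh.gpInduced k X I i F₁') b
  set gJ' := ParSh.gpDeg k X α (kernel π) (ParSh.gpInduced k X I (kernel.ι π) F₁') b
  set gF := ParSh.gpDeg k X α F F₁' m
  have hn' : (0 : ℝ) < n := by exact_mod_cast hn
  have hm' : (0 : ℝ) < m := by exact_mod_cast hm
  have hab' : (n : ℝ) = a + b := by exact_mod_cast hab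
  have s1 : gE * b ≤ gJ * n := by
    have t1 := mul_le_mul_of_nonneg_right hle hn'.le
    have t2 : gE * (n : ℝ) = gE * a + gE * b := by rw [hab']; ring
    linarith
  have s2 : gJ' * m * n ≤ gJ * m * n := by
    have t1 := mul_le_mul_of_nonneg_right s1 hm'.le
    have t2 := mul_le_mul_of_nonneg_right hJ'ss hn'.le
    have t3 : gF * b * n = gE * b * m := by
      rw [show gF * b * n = gF * n * b by ring, ← hμ]; ring
    linarith
  have s3 : gJ' ≤ gJ := le_of_mul_le_mul_right (le_of_mul_le_mul_right s2 hn') hm'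
  haveI := (g2 h1 s3).1
  -- `q` is an isomorphism
  have hd : dg k (kernel π) = dg k J := (dg_iso k (asIso j)).symm
  obtain ⟨hKq, hKq1, hKq2⟩ := kernel_add k q hC hC'c
  rw [dg_eq k hC'] at hKq2 hJ'2
  have hzq : IsZero (kernel q) := isZero_of_dg_eq_zero k hdim hKq (by omega) (by omega)
  haveI := Preadditive.mono_of_isZero_kernel q hzq
  haveI : IsIso q := isIso_of_mono_of_epi q
  exact ⟨_, rank_congr ((asIso q).symm ≪≫ (cokernelEpiComp p i).symm ≪≫ cokernelIsoOfEq hpi) hC'⟩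

include hdim hI in
/-- A nonzero map between stable structures of equal slope is an isomorphism. -/
theorem isIso_of_stable_gp (h0 : 0 ≤ α) (h1 : α < 1) (hn : 0 < n) (hm : 0 < m)
    (hE : FlatMod.IsFinLocFreeOfRank n E) (hF : FlatMod.IsFinLocFreeOfRank m F)
    (hEst : ParSh.IsGPStable k X I α F₁ n)
    (hFss : ParSh.IsGPSemistable k X I α F₁' m) (hFst : ParSh.IsGPStable k X I α F₁' m)
    (hμ : ParSh.gpDeg k X α E F₁ n * (m : ℝ) = ParSh.gpDeg k X α F F₁' m * (n : ℝ))
    (f : E ⟶ F) (hf : ParSh.IsGPHom k X I F₁ F₁' f) (hne : f ≠ 0) :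
    IsIso f ∧ (0 < α → F₁.map (ParSh.fibDMap k X I f) = F₁') := by
  obtain ⟨K, J, ι, p, i, a, b, hι, hi, hp, hpi, hK, hJ, hab, hbm, hbpos, hmono, hle⟩ :=
    exists_image_gp k hdim hI hE hF F₁ F₁' f hf h0
  have hb := hbpos hne
  have hJss := ss_le k hI hFss i hJ (hi := hi)
  set gE := ParSh.gpDeg k X α E F₁ n
  set gK := ParSh.gpDeg k X α K (ParSh.gpInduced k X I ι F₁) a
  set gJ := ParSh.gpDeg k X α J (ParSh.gpInduced k X I i F₁') b
  set gF := ParSh.gpDeg k X α F F₁' m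
  have hn' : (0 : ℝ) < n := by exact_mod_cast hn
  have hm' : (0 : ℝ) < m := by exact_mod_cast hm
  have hab' : (n : ℝ) = a + b := by exact_mod_cast hab
  have key : ∀ u : ℝ, gK * n ≤ gE * a + u → gJ * m * n ≥ gF * b * n - u * m := fun u hu => by
    have t1 := mul_le_mul_of_nonneg_right (mul_le_mul_of_nonneg_right hle hn'.le) hm'.le
    have t2 : gE * (n : ℝ) * m = gE * a * m + gF * b * n := by
      rw [show gF * b * n = gF * n * b by ring, ← hμ, hab']; ring
    have t3 := mul_le_mul_of_nonneg_right hu hm'.le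
    linarith
  rcases Nat.eq_zero_or_pos a with ha | ha
  swap
  · exfalso
    have hK' : gK * (n : ℝ) < gE * (a : ℝ) := hEst K a ι hι ha (by omega) hK
    have := key (gK * n - gE * a) (by linarith)
    have t := mul_le_mul_of_nonneg_right hJss hn'.le
    have : 0 ≤ (gK * n - gE * a) * m := by linarith
    nlinarith
  haveI := hmono ha
  obtain rfl : b = n := by omega
  rcases hbm.lt_or_eq with hlt | rfl
  · exfalso
    have hJ' : gJ * (m : ℝ) < gF * (b : ℝ) := hFst J b i hi hb hlt hJ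
    have hK' : gK * (b : ℝ) ≤ gE * a + 0 := by
      subst ha
      have : gK = 0 := gpDeg_rank_zero k hI hK _ _
      simp [this]
    have := key 0 hK'
    nlinarith
  · have hgg : gE = gF := mul_right_cancel₀ (ne_of_gt hn') hμ
    exact (gpDeg_le_mono k hdim hI hE hF F₁ F₁' f hf h0 h1.le).2 h1 (le_of_eq hgg.symm)

include hdim hI in
/-- A stable structure is simple. -/
theorem exists_scalar_gp [IsAlgClosed k] (h0 : 0 ≤ α) (h1 : α < 1) (hn : 0 < n)
    (hE : FlatMod.IsFinLocFreeOfRank n E) (hEss : ParSh.IsGPSemistable k X I α F₁ n)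
    (hEst : ParSh.IsGPStable k X I α F₁ n) (f : E ⟶ E) (hf : ParSh.IsGPHom k X I F₁ F₁ f) :
    ∃ c : k, (SheafOfModules.toSheaf X.ringCatSheaf).map f =
      Coh.smulAb E (Coh.toGlobal (X ↘ Spec (CommRingCat.of k)) c) := by
  have hEc := isCoh_of_rank hE
  have hne : ¬ IsZero E := nonzero_of_rank k hn hE
  obtain ⟨x, hx, hxc⟩ := (DevLib.isClosed_support hEc).exists_closed_singleton
    (Set.nonempty_iff_ne_empty.2 fun h => hne (DevLib.isZero_of_support_empty h))
  haveI := hEc.1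
  haveI := PullbackMod.finite_stalk_of_isFT (M := E) hEc.2 x
  haveI : Nontrivial (E.presheaf.stalk x) := not_subsingleton_iff_nontrivial.1 hx
  obtain ⟨c, hc⟩ := ShStabLib.exists_scalar_not_bijective _ (ShStabLib.residue_toGlobal_surjective k x hxc)
    (PullbackMod.stalkLin f x)
  refine ⟨c, ?_⟩
  rw [← cst_eq_iff k]
  by_contra hne'
  let c₁ : E ⟶ E := cst k E (-c)
  let c₀ : E ⟶ E := cst k E c
  let g : E ⟶ E := f + c₁
  have hg : g = f - c₀ := by
    have h := cst_add k E c (-c)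
    rw [add_neg_cancel, cst_zero] at h
    have h' : c₁ = -c₀ := eq_neg_of_add_eq_zero_right (a := c₀) (b := c₁) h.symm
    show f + c₁ = _
    rw [h', sub_eq_add_neg]
  have hgf : ParSh.IsGPHom k X I F₁ F₁ g := by
    rintro _ ⟨z, hz, rfl⟩
    show ParSh.fibDMap k X I (f + c₁) z ∈ F₁
    rw [fibDMap_add]
    show ParSh.fibDMap k X I f z + ParSh.fibDMap k X I (cst k E (-c) : E ⟶ E) z ∈ F₁
    rw [fibDMap_cst]
    exact F₁.add_mem (hf ⟨z, hz, rfl⟩) (F₁.smul_mem _ hz)
  haveI := (isIso_of_stable_gp k hdim hI h0 h1 hn hn hE hE hEst hEss hEst rfl g hgf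
    (by rw [hg]; exact sub_ne_zero.2 hne')).1
  have hb := (PullbackMod.isIso_iff_stalk g).1 inferInstance x
  have e : PullbackMod.stalkLin g x = PullbackMod.stalkLin f x -
      (X.presheaf.germ ⊤ x trivial).hom (Coh.toGlobal (X ↘ Spec (CommRingCat.of k)) c) • LinearMap.id := by
    rw [hg]
    refine LinearMap.ext fun z => ?_
    obtain ⟨U, hxU, s, rfl⟩ := TopCat.Presheaf.exists_germ_eq E.presheaf z
    rw [LinearMap.sub_apply, LinearMap.smul_apply, LinearMap.id_apply, PullbackMod.stalkLin_germ,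
      PullbackMod.stalkLin_germ]
    show E.presheaf.germ U x hxU (f.app U s - (FactorOne.mulEnd E _).app U s) = _
    rw [map_sub, FactorOne.mulEnd_app, HomLib.germ_smul', TopCat.Presheaf.germ_res_apply]
  rw [e] at hb
  exact hc hb

section weights

variable {d : ℕ} (hdegD : ∀ (G : X.Modules) (r : ℕ), FlatMod.IsFinLocFreeOfRank r G →
  Module.finrank k (ParSh.fibD X I G) = r * d)

include hdegD in
theorem wt_bound {G : X.Modules} {r : ℕ} (hG : FlatMod.IsFinLocFreeOfRank r G)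
    (P : Submodule k (ParSh.fibD X I G)) : (Module.finrank k P : ℝ) ≤ (r : ℝ) * d := by
  haveI := finite_fibD k (I := I) hG
  exact_mod_cast (Submodule.finrank_le P).trans (hdegD G r hG).le

include k in
theorem rank_le_mono {G : X.Modules} {r : ℕ} (i : G ⟶ E) [Mono i] (hE : FlatMod.IsFinLocFreeOfRank n E)
    (hG : FlatMod.IsFinLocFreeOfRank r G) : r ≤ n := by
  obtain ⟨-, h, -⟩ := coker_add k i (isCoh_of_rank hG) (isCoh_of_rank hE)
  rw [grk_of_rank hG, grk_of_rank hE] at h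
  omega

omit [IsIntegral X] [IsRegCurve X] in
theorem nmul_bound (hd : 0 < d) (hn : 2 ≤ n) (hα : 1 - 1 / ((d : ℝ) * (n : ℝ) * ((n : ℝ) - 1)) < α) :
    0 < (n : ℝ) - 1 ∧ (1 - α) * ((d : ℝ) * (n : ℝ) * ((n : ℝ) - 1)) < 1 := by
  have hn' : (2 : ℝ) ≤ n := by exact_mod_cast hn
  have hd' : (0 : ℝ) < d := by exact_mod_cast hd
  have hP : (0 : ℝ) < (d : ℝ) * (n : ℝ) * ((n : ℝ) - 1) := mul_pos (mul_pos hd' (by linarith)) (by linarith)
  exact ⟨by linarith, (lt_div_iff₀ hP).1 (by linarith)⟩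

include hdegD in
theorem ss_one_of_ss (hd : 0 < d) (hn : 2 ≤ n) (hE : FlatMod.IsFinLocFreeOfRank n E) (h1 : α < 1)
    (hα : 1 - 1 / ((d : ℝ) * (n : ℝ) * ((n : ℝ) - 1)) < α) (hss : ParSh.IsGPSemistable k X I α F₁ n) :
    ParSh.IsGPSemistable k X I 1 F₁ n := by
  intro G r i hi hr hG
  haveI := hi
  obtain ⟨hn1, hc⟩ := nmul_bound hd hn hα
  have hrn := rank_le_mono k i hE hG
  have hw := wt_bound k hdegD hG (ParSh.gpInduced k X I i F₁)
  have h := hss G r i hi hr hG
  simp only [ParSh.gpDeg, ParSh.gpWt, one_mul] at h ⊢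
  set w := Module.finrank k (ParSh.gpInduced k X I i F₁)
  set W := Module.finrank k F₁
  have hn0 : (0 : ℝ) ≤ n := Nat.cast_nonneg _
  have hr0 : (0 : ℝ) ≤ r := Nat.cast_nonneg _
  -- N ≤ (1-α) r d n < r / (n-1)
  have hN : (((Curv2.deg k X G r : ℝ) + w) * n - ((Curv2.deg k X E n : ℝ) + W) * r) * ((n : ℝ) - 1) < r := by
    have t1 : (1 - α) * ((w : ℝ) * n - (W : ℝ) * r) ≤ (1 - α) * ((r : ℝ) * d * n) :=
      mul_le_mul_of_nonneg_left (by nlinarith [mul_nonneg (Nat.cast_nonneg (α := ℝ) W) hr0]) (by linarith)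
    have t2 := mul_lt_mul_of_pos_right hc (show (0 : ℝ) < r by exact_mod_cast hr)
    have t3 := mul_le_mul_of_nonneg_right (show ((Curv2.deg k X G r : ℝ) + w) * n -
      ((Curv2.deg k X E n : ℝ) + W) * r ≤ (1 - α) * ((r : ℝ) * d * n) by linarith) hn1.le
    linarith
  by_contra hcon
  rw [not_le] at hcon
  rcases hrn.lt_or_eq with hlt | rfl
  · have hN1 : (1 : ℝ) ≤ ((Curv2.deg k X G r : ℝ) + w) * n - ((Curv2.deg k X E n : ℝ) + W) * r := by
      have h' : (Curv2.deg k X E n + W) * (r : ℤ) + 1 ≤ (Curv2.deg k X G r + w) * (n : ℤ) :=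
        Int.add_one_le_iff.2 (by exact_mod_cast hcon)
      have h'' : ((Curv2.deg k X E n : ℝ) + W) * (r : ℝ) + 1 ≤ ((Curv2.deg k X G r : ℝ) + w) * (n : ℝ) := by
        exact_mod_cast h'
      linarith
    have t := mul_le_mul_of_nonneg_right hN1 hn1.le
    have : (r : ℝ) + 1 ≤ n := by exact_mod_cast hlt
    linarith
  · have hr' : (0 : ℝ) < r := by exact_mod_cast hr
    have h' : Curv2.deg k X E r + W + 1 ≤ Curv2.deg k X G r + (w : ℤ) :=
      Int.add_one_le_iff.2 (by exact_mod_cast lt_of_mul_lt_mul_right hcon hr'.le)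
    have h'' : (Curv2.deg k X E r : ℝ) + W + 1 ≤ (Curv2.deg k X G r : ℝ) + w := by exact_mod_cast h'
    have t1 := mul_le_mul_of_nonneg_right (show (1 : ℝ) ≤ ((Curv2.deg k X G r : ℝ) + w) -
      ((Curv2.deg k X E r : ℝ) + W) by linarith) (mul_nonneg hr'.le hn1.le)
    have hr2 : (2 : ℝ) ≤ r := by exact_mod_cast hn
    nlinarith

include hdegD in
theorem st_of_st_one (hd : 0 < d) (hn : 2 ≤ n) (hE : FlatMod.IsFinLocFreeOfRank n E) (h1 : α < 1)
    (hα : 1 - 1 / ((d : ℝ) * (n : ℝ) * ((n : ℝ) - 1)) < α) (hst : ParSh.IsGPStable k X I 1 F₁ n) :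
    ParSh.IsGPStable k X I α F₁ n := by
  intro G r i hi hr hlt hG
  obtain ⟨hn1, hc⟩ := nmul_bound hd hn hα
  have hW := wt_bound k hdegD hE F₁
  have h := hst G r i hi hr hlt hG
  simp only [ParSh.gpDeg, ParSh.gpWt, one_mul] at h ⊢
  set w := Module.finrank k (ParSh.gpInduced k X I i F₁)
  set W := Module.finrank k F₁
  have h' : (Curv2.deg k X G r + w) * (n : ℤ) + 1 ≤ (Curv2.deg k X E n + W) * (r : ℤ) :=
    Int.add_one_le_iff.2 (by exact_mod_cast h)
  have h'' : ((Curv2.deg k X G r : ℝ) + w) * (n : ℝ) + 1 ≤ ((Curv2.deg k X E n : ℝ) + W) * (r : ℝ) := by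
    exact_mod_cast h'
  have hr' : (r : ℝ) + 1 ≤ n := by exact_mod_cast hlt
  have hr0 : (0 : ℝ) < r := by exact_mod_cast hr
  have hn0 : (0 : ℝ) ≤ n := Nat.cast_nonneg _
  have hd0 : (0 : ℝ) ≤ d := Nat.cast_nonneg _
  -- (1-α) W r < 1
  have hx : (1 - α) * ((W : ℝ) * r) < 1 := by
    have t1 : (W : ℝ) * r ≤ (d : ℝ) * n * ((n : ℝ) - 1) := by
      have t := mul_le_mul hW (show (r : ℝ) ≤ (n : ℝ) - 1 by linarith) hr0.le (by positivity)
      linarith
    exact lt_of_le_of_lt (mul_le_mul_of_nonneg_left t1 (by linarith)) hc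
  have hy : 0 ≤ (1 - α) * ((w : ℝ) * n) := mul_nonneg (by linarith) (by positivity)
  linarith

theorem st_one_of_ss_one (hn : 0 < n) (hcop : IsCoprime (n : ℤ) (Curv2.deg k X E n)) {a : ℕ}
    (ha : Module.finrank k F₁ = a * n) (hss : ParSh.IsGPSemistable k X I 1 F₁ n) :
    ParSh.IsGPStable k X I 1 F₁ n := by
  intro G r i hi hr hlt hG
  refine lt_of_le_of_ne (hss G r i hi hr hG) fun he => ?_
  simp only [ParSh.gpDeg, ParSh.gpWt, one_mul, ha] at he
  have he' : (Curv2.deg k X G r + Module.finrank k (ParSh.gpInduced k X I i F₁)) * (n : ℤ) =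
      (Curv2.deg k X E n + (a : ℤ) * n) * r := by exact_mod_cast he
  have hdvd : (n : ℤ) ∣ Curv2.deg k X E n * r :=
    ⟨Curv2.deg k X G r + Module.finrank k (ParSh.gpInduced k X I i F₁) - a * r, by linear_combination -he'⟩
  have := Nat.le_of_dvd hr (Int.natCast_dvd_natCast.1 (hcop.dvd_of_dvd_mul_left hdvd))
  omega

include hdim in
theorem ss_of_ss_one (h0 : 0 ≤ α) (h1 : α ≤ 1) (hE : FlatMod.IsFinLocFreeOfRank n E)
    (hst : ParSh.IsGPStable k X I α F₁ n) (hss : ParSh.IsGPSemistable k X I 1 F₁ n) :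
    ParSh.IsGPSemistable k X I α F₁ n := by
  intro G r i hi hr hG
  haveI := hi
  rcases (rank_le_mono k i hE hG).lt_or_eq with hlt | rfl
  · exact (hst G r i hi hr hlt hG).le
  · have hd : (Curv2.deg k X G r : ℝ) ≤ (Curv2.deg k X E r : ℝ) := by
      exact_mod_cast (deg_le_mono k hdim hG hE i).1
    have h := hss G r i hi hr hG
    have hr' : (0 : ℝ) < r := by exact_mod_cast hr
    simp only [ParSh.gpDeg, ParSh.gpWt, one_mul] at h ⊢
    refine mul_le_mul_of_nonneg_right ?_ hr'.le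
    have h' := mul_le_mul_of_nonneg_left (le_of_mul_le_mul_right h hr') h0
    have h'' := mul_le_mul_of_nonneg_left hd (sub_nonneg.2 h1)
    linarith

end weights

end Groth.Agent.GPLib
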